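import Cfsg.Agent.LV.Asm.Main
import Cfsg.Agent.LV.Rk.Five
import Cfsg.Agent.LV.Cl.HzB
import Cfsg.Agent.LV.Cl.MN
import Cfsg.Agent.LV.Cl.Conj
import Cfsg.Agent.LV.Cl.Chain
import Cfsg.Agent.LV.Cl.Ord
import Cfsg.Agent.LV.Cl.Peel
import Cfsg.Agent.LV.Cl.Lab
import Cfsg.Agent.LV.Cl.Avg
import Cfsg.Agent.LV.F4.Row
import Cfsg.Agent.LV.Red.Main

/-!
# LV (S4598): all rows for `p = 5` from the two certificates and the rows `E6`, `E7`, `²E6` (helper50)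
-/

set_option autoImplicit false

namespace Cfsg.Agent.LV.Asm

open Cfsg Cfsg.Agent.LV.Cl

/-- height zero for the classical data from the two certificates -/
theorem hz_of_cert (hH : BoxHalf) (hG : BoxGood) : BoxHZ :=
  boxHZ_of boxMN boxConj (boxChainT boxMN) (boxPeel boxAvg (boxChain boxMN) hH) hG boxLab boxOrd

/-- all rows for `p = 5` -/
theorem five_of (hH : BoxHalf) (hG : BoxGood) (e6 : Row 5 (ChevX 5 Lie.chevE6 0)) (e7 : Row 5 (ChevX 5 Lie.chevE7 0))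
    (tw6 : Row 5 (TwE6X 5)) : Row 5 fun S _ => IsKnownSimple' S :=
  row_five (Rk.psp5 (hz_of_cert hH hG) boxOrd) (Rk.odd5 (hz_of_cert hH hG) boxOrd) (Rk.plus5 (hz_of_cert hH hG) boxOrd)
    (Rk.minus5 (hz_of_cert hH hG) boxOrd) F4.row_f4 e6 e7 tw6

end Cfsg.Agent.LV.Asm
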