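import Cfsg.Agent.LV.Rk.Frame
import Cfsg.Agent.LV.A.Rows
import Cfsg.Agent.LV.Red.Own
import Cfsg.Agent.PQ.Alt.Hz
import Cfsg.Agent.LV.Spor.Row35
import Cfsg.Agent.LV.TF.Main

/-!
# LV (S4598): the assembly (helper22)

`row_three` : all rows for `p = 3`; `row_five` : all rows for `p = 5` from the eight rows which are proved elsewhere.
-/

set_option autoImplicit false

namespace Cfsg.Agent.LV.Asm

open Cfsg

theorem row_three : Row 3 fun S _ => IsKnownSimple' S :=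
  row_all Nat.prime_three
    (easy_of Nat.prime_three (by decide) (PQ.Alt.rowAlt 3 Nat.prime_three) SpH.rowSpor3 SpH.rowTits3)
    ⟨A.row_psl (by decide), A.row_psu (by decide), Rk.psp3, Rk.odd3, Rk.plus3, Rk.minus3⟩ exc_three

theorem row_five (psp : Row 5 (PspX 5)) (odd : Row 5 (OddX 5)) (plus : Row 5 (PlusX 5)) (minus : Row 5 (MinusX 5))
    (f4 : Row 5 (ChevX 5 Lie.chevF4 0)) (e6 : Row 5 (ChevX 5 Lie.chevE6 0)) (e7 : Row 5 (ChevX 5 Lie.chevE7 0))
    (tw6 : Row 5 (TwE6X 5)) : Row 5 fun S _ => IsKnownSimple' S :=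
  row_all Nat.prime_five
    (easy_of Nat.prime_five (by decide) (PQ.Alt.rowAlt 5 Nat.prime_five) SpH.rowSpor5 SpH.rowTits5)
    ⟨A.row_psl (by decide), A.row_psu (by decide), psp, odd, plus, minus⟩
    ⟨Sm.row_g2, f4, e6, e7, e8_five, tw6, Sm.row_tw4, TF.row_tf4⟩

end Cfsg.Agent.LV.Asm
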